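import Cfsg.Agent.Lib.Spor.TC.Word

/-!
Relators of the amalgam of the centraliser of an involution and the normalisers of the two elementary
subgroups of order 64, in seven involutions, for one fusion pattern. Found by a computer search.
-/

set_option autoImplicit false
set_option maxRecDepth 100000

namespace CfsgLib.Spor.HeldTri.AmLin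

open CfsgLib.Spor.TC

/-- The relators of the amalgam. -/
def relsP : List PowRel := [
  ([0, 2, 0, 2], 1),
  ([0, 4, 0, 4], 1),
  ([1, 4, 1, 4], 1),
  ([2, 3, 2, 3], 1),
  ([2, 5, 2, 5], 1),
  ([4, 5, 4, 5], 1),
  ([0, 2, 3, 0, 3, 2], 1),
  ([0, 2, 4, 0, 4, 2], 1),
  ([0, 3, 4, 0, 4, 3], 1),
  ([0, 3, 5, 0, 5, 3], 1),
  ([0, 4, 5, 0, 5, 4], 1),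
  ([1, 2, 1, 2, 1, 2], 1),
  ([1, 4, 5, 1, 5, 4], 1),
  ([1, 4, 6, 1, 6, 4], 1),
  ([2, 3, 5, 2, 5, 3], 1),
  ([3, 4, 3, 4, 3, 4], 1),
  ([0, 1, 0, 1, 0, 1, 0, 1], 1),
  ([0, 1, 2, 1, 2, 1, 0, 2], 1),
  ([0, 2, 3, 2, 0, 6, 3, 6], 1),
  ([0, 2, 3, 4, 0, 4, 3, 2], 1),
  ([0, 2, 3, 5, 0, 5, 3, 2], 1),
  ([0, 2, 4, 2, 0, 2, 4, 2], 1),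
  ([0, 2, 4, 3, 0, 3, 4, 2], 1),
  ([0, 2, 4, 5, 0, 5, 4, 2], 1),
  ([0, 2, 5, 3, 0, 3, 5, 2], 1),
  ([0, 3, 4, 3, 0, 3, 4, 3], 1),
  ([0, 3, 4, 5, 0, 5, 4, 3], 1),
  ([0, 3, 5, 4, 0, 4, 5, 3], 1),
  ([0, 4, 2, 4, 0, 4, 2, 4], 1),
  ([0, 4, 2, 5, 0, 5, 2, 4], 1),
  ([0, 4, 3, 5, 0, 5, 3, 4], 1),
  ([0, 5, 3, 4, 0, 4, 3, 5], 1),
  ([0, 6, 4, 6, 0, 6, 4, 6], 1),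
  ([1, 2, 1, 2, 4, 1, 4, 2], 1),
  ([1, 2, 1, 2, 6, 1, 6, 2], 1),
  ([1, 3, 4, 3, 4, 3, 1, 4], 1),
  ([1, 4, 2, 0, 2, 4, 0, 1], 1),
  ([1, 4, 5, 6, 1, 6, 5, 4], 1),
  ([1, 4, 6, 4, 1, 4, 6, 4], 1),
  ([1, 6, 4, 6, 1, 6, 4, 6], 1),
  ([1, 6, 5, 6, 1, 6, 5, 6], 1),
  ([2, 4, 2, 4, 2, 4, 2, 4], 1),
  ([2, 5, 3, 5, 2, 5, 3, 5], 1),
  ([2, 6, 2, 6, 2, 6, 2, 6], 1),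
  ([2, 6, 3, 6, 2, 6, 3, 6], 1),
  ([2, 6, 5, 6, 2, 6, 5, 6], 1),
  ([3, 4, 3, 4, 6, 3, 6, 4], 1),
  ([4, 3, 1, 5, 1, 5, 3, 4], 1),
  ([4, 6, 4, 6, 4, 6, 4, 6], 1),
  ([0, 1, 0, 1, 2, 1, 0, 1, 2], 1),
  ([0, 1, 0, 1, 6, 0, 1, 0, 6], 1),
  ([0, 2, 1, 0, 2, 1, 2, 0, 1], 1),
  ([0, 2, 6, 2, 6, 0, 6, 2, 6], 1),
  ([0, 5, 6, 0, 5, 6, 5, 0, 6], 1),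
  ([1, 2, 1, 3, 1, 2, 3, 1, 3], 1),
  ([1, 2, 1, 4, 2, 1, 4, 2, 4], 1),
  ([1, 2, 3, 1, 2, 3, 1, 3, 2], 1),
  ([1, 2, 4, 2, 1, 2, 4, 2, 4], 1),
  ([1, 3, 1, 3, 4, 3, 1, 3, 4], 1),
  ([2, 1, 3, 1, 3, 2, 1, 3, 1], 1),
  ([2, 3, 4, 2, 3, 4, 3, 2, 4], 1),
  ([2, 3, 4, 2, 4, 3, 4, 2, 4], 1),
  ([3, 1, 4, 3, 4, 1, 3, 4, 1], 1),
  ([3, 4, 3, 5, 3, 4, 5, 3, 5], 1),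
  ([3, 4, 5, 3, 4, 5, 3, 5, 4], 1),
  ([3, 4, 5, 3, 5, 4, 3, 5, 4], 1),
  ([4, 5, 6, 4, 6, 5, 6, 4, 6], 1),
  ([0, 1, 0, 6, 2, 1, 0, 1, 2, 6], 1),
  ([0, 1, 2, 6, 1, 6, 2, 1, 0, 2], 1),
  ([0, 2, 6, 3, 6, 2, 0, 6, 3, 6], 1),
  ([0, 2, 6, 5, 6, 0, 6, 5, 6, 2], 1),
  ([0, 3, 0, 6, 0, 6, 3, 6, 0, 6], 1),
  ([0, 3, 0, 6, 2, 6, 3, 6, 2, 6], 1),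
  ([0, 3, 6, 4, 6, 0, 6, 4, 6, 3], 1),
  ([0, 3, 6, 5, 6, 0, 6, 5, 6, 3], 1),
  ([0, 4, 0, 6, 0, 6, 4, 6, 0, 6], 1),
  ([0, 4, 3, 4, 3, 4, 0, 6, 3, 6], 1),
  ([0, 4, 6, 4, 6, 0, 6, 4, 6, 4], 1),
  ([0, 4, 6, 4, 6, 4, 0, 6, 4, 6], 1),
  ([0, 4, 6, 5, 6, 0, 6, 5, 6, 4], 1),
  ([0, 5, 0, 6, 0, 6, 5, 6, 0, 6], 1),
  ([0, 5, 0, 6, 2, 6, 5, 6, 2, 6], 1),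
  ([0, 5, 6, 4, 6, 0, 6, 4, 6, 5], 1),
  ([0, 6, 2, 3, 2, 6, 0, 6, 3, 6], 1),
  ([0, 6, 2, 5, 2, 6, 0, 6, 5, 6], 1),
  ([0, 6, 4, 5, 6, 0, 6, 5, 4, 6], 1),
  ([0, 6, 4, 6, 0, 6, 5, 4, 5, 6], 1),
  ([1, 2, 1, 2, 6, 5, 1, 5, 6, 2], 1),
  ([1, 2, 6, 5, 6, 2, 1, 6, 5, 6], 1),
  ([1, 3, 1, 3, 1, 3, 6, 1, 6, 3], 1),
  ([1, 3, 4, 6, 3, 6, 4, 3, 1, 4], 1),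
  ([1, 4, 5, 6, 5, 1, 5, 6, 5, 4], 1),
  ([1, 4, 6, 4, 5, 1, 5, 4, 6, 4], 1),
  ([1, 5, 6, 5, 6, 1, 6, 5, 6, 5], 1),
  ([1, 6, 4, 5, 6, 1, 6, 5, 4, 6], 1),
  ([2, 3, 6, 2, 6, 2, 6, 2, 6, 3], 1),
  ([2, 3, 6, 5, 6, 2, 6, 5, 6, 3], 1),
  ([2, 5, 6, 2, 6, 2, 6, 2, 6, 5], 1),
  ([2, 5, 6, 2, 6, 5, 2, 6, 2, 6], 1),
  ([3, 4, 6, 5, 3, 5, 6, 4, 3, 5], 1),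
  ([0, 1, 0, 1, 3, 6, 0, 3, 1, 0, 6], 1),
  ([0, 1, 0, 1, 4, 6, 0, 1, 0, 6, 4], 1),
  ([0, 1, 0, 1, 5, 6, 0, 1, 0, 6, 5], 1),
  ([0, 1, 0, 1, 6, 0, 1, 2, 0, 2, 6], 1),
  ([0, 1, 0, 1, 6, 0, 1, 4, 0, 4, 6], 1),
  ([0, 1, 0, 1, 6, 0, 1, 5, 0, 5, 6], 1),
  ([0, 1, 0, 1, 6, 0, 4, 1, 4, 0, 6], 1),
  ([0, 1, 0, 1, 6, 0, 5, 1, 5, 0, 6], 1),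
  ([0, 1, 0, 1, 6, 0, 6, 1, 6, 0, 6], 1),
  ([0, 1, 0, 4, 1, 4, 6, 0, 1, 0, 6], 1),
  ([0, 2, 0, 6, 0, 6, 2, 6, 0, 2, 6], 1),
  ([0, 2, 3, 6, 2, 6, 0, 6, 2, 6, 3], 1),
  ([0, 2, 5, 2, 6, 5, 0, 6, 0, 5, 6], 1),
  ([0, 2, 5, 6, 0, 5, 6, 5, 0, 6, 2], 1),
  ([0, 2, 5, 6, 2, 6, 0, 6, 2, 6, 5], 1),
  ([0, 2, 5, 6, 5, 0, 6, 5, 0, 6, 2], 1),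
  ([0, 2, 6, 2, 5, 6, 0, 6, 5, 2, 6], 1),
  ([0, 2, 6, 2, 6, 3, 0, 3, 6, 2, 6], 1),
  ([0, 3, 5, 6, 0, 5, 6, 5, 0, 6, 3], 1),
  ([0, 4, 5, 6, 5, 0, 6, 5, 0, 6, 4], 1),
  ([0, 4, 6, 4, 5, 6, 4, 0, 6, 5, 6], 1),
  ([0, 4, 6, 5, 6, 4, 0, 6, 4, 5, 6], 1),
  ([1, 2, 1, 3, 1, 2, 6, 3, 6, 1, 3], 1),
  ([1, 2, 3, 1, 2, 6, 3, 1, 3, 6, 2], 1),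
  ([1, 2, 3, 1, 3, 6, 1, 6, 2, 1, 3], 1),
  ([1, 2, 6, 1, 3, 1, 6, 2, 3, 1, 3], 1),
  ([1, 3, 1, 3, 4, 6, 3, 1, 3, 6, 4], 1),
  ([1, 3, 1, 6, 4, 3, 1, 4, 3, 4, 6], 1),
  ([1, 3, 4, 3, 1, 3, 4, 6, 1, 6, 3], 1),
  ([1, 3, 5, 3, 5, 6, 5, 3, 1, 5, 6], 1),
  ([1, 3, 5, 3, 6, 5, 3, 1, 5, 6, 5], 1),
  ([3, 4, 5, 3, 5, 4, 6, 3, 6, 4, 5], 1),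
  ([3, 5, 3, 5, 6, 5, 6, 3, 6, 5, 6], 1),
  ([4, 5, 6, 5, 4, 5, 6, 5, 6, 4, 6], 1),
  ([0, 1, 0, 1, 0, 2, 6, 0, 1, 0, 6, 2], 1),
  ([0, 1, 0, 5, 6, 2, 1, 0, 1, 2, 6, 5], 1),
  ([0, 1, 0, 6, 0, 2, 1, 0, 1, 2, 0, 6], 1),
  ([0, 1, 0, 6, 0, 6, 0, 1, 0, 6, 0, 6], 1),
  ([0, 1, 0, 6, 5, 2, 1, 0, 1, 2, 5, 6], 1),
  ([0, 1, 2, 3, 6, 0, 3, 1, 0, 6, 2, 1], 1),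
  ([0, 1, 2, 6, 0, 6, 1, 6, 0, 6, 2, 1], 1),
  ([0, 1, 2, 6, 2, 1, 6, 0, 6, 2, 0, 6], 1),
  ([0, 1, 2, 6, 5, 1, 5, 6, 2, 1, 0, 2], 1),
  ([0, 1, 3, 1, 3, 1, 3, 1, 0, 6, 3, 6], 1),
  ([0, 1, 5, 1, 0, 6, 0, 6, 5, 6, 0, 6], 1),
  ([0, 1, 5, 6, 0, 5, 1, 6, 5, 0, 6, 1], 1),
  ([0, 1, 6, 0, 4, 0, 6, 1, 0, 6, 4, 6], 1),
  ([0, 1, 6, 0, 5, 0, 6, 1, 0, 6, 5, 6], 1),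
  ([0, 1, 6, 2, 5, 2, 6, 1, 0, 6, 5, 6], 1),
  ([0, 2, 1, 6, 5, 6, 1, 2, 0, 6, 5, 6], 1),
  ([0, 2, 5, 6, 0, 2, 5, 6, 5, 2, 0, 6], 1),
  ([0, 3, 5, 3, 6, 0, 5, 6, 3, 5, 0, 6], 1),
  ([0, 3, 5, 6, 4, 6, 0, 6, 4, 6, 5, 3], 1),
  ([0, 3, 6, 0, 5, 3, 6, 5, 0, 6, 3, 5], 1),
  ([0, 3, 6, 4, 3, 6, 0, 6, 3, 4, 6, 3], 1),
  ([0, 4, 3, 6, 4, 6, 0, 6, 4, 6, 3, 4], 1),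
  ([0, 4, 5, 6, 0, 5, 4, 6, 5, 4, 0, 6], 1),
  ([0, 4, 5, 6, 5, 6, 0, 6, 5, 6, 5, 4], 1),
  ([0, 5, 6, 4, 3, 6, 0, 6, 3, 4, 6, 5], 1),
  ([0, 5, 6, 4, 5, 6, 0, 6, 5, 4, 6, 5], 1),
  ([1, 2, 1, 5, 6, 2, 1, 5, 6, 5, 2, 6], 1),
  ([1, 2, 1, 5, 6, 5, 2, 6, 5, 1, 2, 6], 1),
  ([1, 2, 5, 6, 2, 5, 1, 6, 5, 2, 6, 2], 1),
  ([1, 2, 5, 6, 2, 5, 6, 5, 1, 2, 6, 2], 1),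
  ([1, 2, 6, 2, 1, 3, 1, 2, 6, 2, 1, 3], 1),
  ([1, 3, 1, 3, 1, 3, 5, 6, 1, 6, 5, 3], 1),
  ([1, 3, 1, 3, 1, 3, 6, 5, 1, 5, 6, 3], 1),
  ([1, 3, 4, 6, 4, 3, 1, 3, 4, 6, 4, 3], 1),
  ([1, 3, 4, 6, 5, 3, 5, 6, 4, 3, 1, 5], 1),
  ([1, 3, 5, 3, 4, 6, 5, 3, 1, 5, 6, 4], 1),
  ([2, 3, 5, 6, 2, 6, 2, 6, 2, 6, 5, 3], 1),
  ([2, 3, 5, 6, 5, 6, 2, 6, 5, 6, 5, 3], 1),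
  ([2, 3, 6, 2, 5, 6, 2, 6, 5, 2, 6, 3], 1),
  ([2, 5, 6, 3, 5, 6, 2, 6, 5, 3, 6, 5], 1),
  ([2, 5, 6, 5, 3, 6, 2, 6, 3, 5, 6, 5], 1),
  ([3, 4, 6, 3, 4, 6, 4, 6, 4, 3, 6, 4], 1),
  ([3, 4, 6, 3, 5, 3, 5, 3, 6, 4, 3, 5], 1),
  ([4, 6, 5, 6, 5, 6, 4, 6, 5, 6, 5, 6], 1),
  ([0, 1, 0, 1, 2, 1, 0, 5, 6, 1, 6, 5, 2], 1),
  ([0, 1, 0, 1, 2, 5, 6, 1, 6, 5, 0, 1, 2], 1),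
  ([0, 1, 0, 1, 3, 6, 2, 0, 3, 2, 1, 0, 6], 1),
  ([0, 1, 0, 1, 4, 3, 6, 0, 3, 1, 0, 6, 4], 1),
  ([0, 1, 0, 1, 4, 5, 6, 0, 1, 0, 6, 5, 4], 1),
  ([0, 1, 0, 1, 5, 3, 6, 0, 3, 1, 0, 6, 5], 1),
  ([0, 1, 0, 2, 5, 1, 5, 0, 1, 2, 6, 1, 6], 1),
  ([0, 1, 0, 4, 6, 0, 1, 0, 5, 1, 5, 6, 4], 1),
  ([0, 1, 0, 4, 6, 0, 6, 4, 6, 1, 0, 1, 6], 1),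
  ([0, 1, 0, 6, 0, 1, 3, 2, 0, 2, 3, 1, 6], 1),
  ([0, 1, 0, 6, 0, 6, 5, 1, 5, 6, 0, 1, 6], 1),
  ([0, 1, 0, 6, 5, 0, 1, 2, 0, 2, 1, 5, 6], 1),
  ([0, 1, 2, 1, 3, 0, 3, 1, 2, 0, 6, 1, 6], 1),
  ([0, 1, 2, 1, 3, 1, 3, 2, 1, 0, 6, 3, 6], 1),
  ([0, 1, 2, 1, 5, 0, 5, 1, 2, 0, 6, 1, 6], 1),
  ([0, 1, 2, 1, 6, 2, 1, 6, 0, 2, 6, 0, 6], 1),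
  ([0, 1, 2, 1, 6, 2, 1, 6, 2, 0, 6, 0, 6], 1),
  ([0, 1, 2, 1, 6, 2, 6, 1, 2, 0, 6, 0, 6], 1),
  ([0, 1, 2, 5, 6, 2, 1, 5, 0, 6, 5, 2, 6], 1),
  ([0, 1, 2, 5, 6, 2, 5, 1, 0, 6, 5, 2, 6], 1),
  ([0, 1, 2, 5, 6, 5, 2, 1, 0, 6, 2, 5, 6], 1),
  ([0, 1, 2, 6, 0, 6, 1, 2, 6, 0, 2, 1, 6], 1),
  ([0, 1, 2, 6, 2, 1, 0, 5, 6, 2, 5, 6, 5], 1),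
  ([0, 1, 2, 6, 2, 1, 6, 2, 0, 6, 0, 6, 2], 1),
  ([0, 1, 2, 6, 3, 1, 3, 6, 2, 1, 0, 2, 3], 1),
  ([0, 1, 3, 1, 2, 1, 3, 1, 0, 2, 6, 3, 6], 1),
  ([0, 1, 3, 1, 2, 6, 1, 3, 1, 3, 6, 0, 2], 1),
  ([0, 1, 3, 1, 3, 4, 3, 1, 0, 6, 3, 6, 4], 1),
  ([0, 1, 3, 1, 4, 3, 1, 3, 4, 0, 6, 3, 6], 1),
  ([0, 1, 3, 4, 3, 1, 3, 4, 1, 0, 6, 3, 6], 1),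
  ([0, 1, 3, 5, 6, 3, 5, 3, 1, 5, 6, 0, 5], 1),
  ([0, 1, 6, 5, 1, 2, 6, 2, 0, 6, 2, 5, 6], 1),
  ([0, 2, 0, 6, 0, 6, 3, 2, 3, 6, 0, 2, 6], 1),
  ([0, 2, 0, 6, 0, 6, 5, 2, 5, 6, 0, 2, 6], 1),
  ([0, 2, 1, 5, 1, 2, 6, 5, 0, 6, 0, 5, 6], 1),
  ([0, 2, 1, 5, 6, 1, 2, 6, 5, 0, 6, 2, 6], 1),
  ([0, 2, 3, 5, 3, 5, 2, 0, 6, 5, 3, 5, 6], 1),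
  ([0, 2, 3, 5, 6, 0, 5, 6, 5, 0, 6, 3, 2], 1),
  ([0, 2, 3, 5, 6, 2, 6, 0, 6, 2, 6, 5, 3], 1),
  ([0, 2, 3, 5, 6, 5, 0, 6, 5, 0, 6, 3, 2], 1),
  ([0, 2, 5, 3, 6, 2, 6, 3, 5, 0, 6, 2, 6], 1),
  ([0, 2, 5, 6, 0, 6, 0, 6, 5, 6, 5, 6, 2], 1),
  ([0, 2, 5, 6, 2, 6, 5, 0, 6, 3, 2, 3, 6], 1),
  ([0, 2, 5, 6, 5, 3, 0, 6, 3, 5, 0, 6, 2], 1),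
  ([0, 2, 6, 2, 6, 0, 6, 1, 2, 1, 2, 1, 6], 1),
  ([0, 2, 6, 2, 6, 0, 6, 3, 5, 2, 5, 3, 6], 1),
  ([0, 2, 6, 2, 6, 0, 6, 5, 3, 2, 3, 5, 6], 1),
  ([0, 2, 6, 2, 6, 3, 5, 0, 5, 3, 6, 2, 6], 1),
  ([0, 3, 0, 6, 1, 3, 1, 2, 1, 3, 1, 2, 6], 1),
  ([0, 3, 0, 6, 1, 3, 4, 1, 3, 1, 3, 4, 6], 1),
  ([0, 3, 0, 6, 5, 3, 4, 3, 5, 3, 4, 5, 6], 1),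
  ([0, 3, 4, 5, 6, 5, 0, 6, 5, 0, 6, 4, 3], 1),
  ([0, 4, 3, 5, 6, 4, 0, 6, 0, 5, 3, 4, 6], 1),
  ([0, 4, 5, 3, 5, 3, 4, 3, 5, 0, 6, 3, 6], 1),
  ([1, 2, 1, 3, 1, 2, 6, 2, 3, 2, 6, 1, 3], 1),
  ([1, 2, 1, 3, 1, 3, 5, 2, 6, 1, 6, 5, 3], 1),
  ([1, 2, 3, 1, 2, 6, 2, 3, 2, 6, 1, 3, 2], 1),
  ([1, 2, 3, 1, 2, 6, 3, 5, 1, 5, 3, 6, 2], 1),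
  ([1, 2, 3, 1, 3, 5, 1, 2, 6, 1, 6, 5, 3], 1),
  ([1, 2, 5, 3, 1, 2, 6, 3, 6, 1, 3, 5, 2], 1),
  ([1, 2, 6, 3, 5, 3, 5, 6, 2, 5, 3, 1, 5], 1),
  ([1, 3, 1, 3, 4, 3, 5, 6, 1, 6, 5, 3, 4], 1),
  ([1, 3, 1, 3, 6, 5, 4, 5, 3, 1, 3, 4, 6], 1),
  ([1, 3, 4, 1, 3, 5, 6, 1, 6, 4, 5, 3, 4], 1),
  ([1, 3, 4, 3, 1, 3, 5, 4, 6, 1, 6, 5, 3], 1),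
  ([1, 3, 4, 6, 1, 3, 5, 1, 5, 3, 6, 4, 3], 1),
  ([1, 3, 4, 6, 3, 1, 3, 5, 1, 5, 6, 4, 3], 1),
  ([1, 3, 4, 6, 3, 1, 3, 6, 4, 5, 1, 5, 3], 1),
  ([1, 3, 5, 4, 6, 1, 6, 5, 3, 1, 4, 3, 4], 1),
  ([1, 3, 5, 4, 6, 3, 6, 4, 5, 3, 1, 4, 5], 1),
  ([3, 4, 3, 5, 6, 5, 6, 4, 5, 3, 6, 4, 6], 1),
  ([3, 4, 6, 3, 5, 4, 6, 4, 6, 5, 3, 6, 4], 1),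
  ([3, 4, 6, 4, 5, 3, 6, 5, 3, 4, 6, 5, 6], 1),
  ([3, 4, 6, 5, 6, 5, 4, 5, 6, 4, 5, 3, 6], 1),
  ([0, 2, 5, 0, 5, 2], 1),
  ([0, 3, 0, 3], 1),
  ([0, 5, 0, 5], 1),
  ([1, 5, 1, 5], 1),
  ([0, 3, 5, 3, 0, 3, 5, 3], 1),
  ([0, 5, 3, 5, 0, 5, 3, 5], 1),
  ([1, 3, 1, 3, 1, 3, 1, 3], 1),
  ([2, 3, 5, 3, 2, 3, 5, 3], 1),
  ([3, 5, 3, 5, 3, 5, 3, 5], 1),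
  ([1, 3, 1, 5, 3, 1, 5, 3, 1, 5, 3, 5], 1)]

/-- Relators on the six letters normalising the first elementary subgroup. -/
def relsN : List PowRel := [
  ([0, 2, 4, 0, 4, 2], 1),
  ([0, 1, 2, 1, 2, 1, 0, 2], 1),
  ([0, 2, 3, 2, 0, 5, 3, 5], 1),
  ([0, 2, 4, 3, 0, 3, 4, 2], 1),
  ([1, 2, 1, 2, 5, 1, 5, 2], 1),
  ([1, 5, 4, 5, 1, 5, 4, 5], 1),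
  ([2, 5, 2, 5, 2, 5, 2, 5], 1),
  ([2, 5, 4, 5, 2, 5, 4, 5], 1),
  ([0, 1, 0, 1, 5, 0, 1, 0, 5], 1),
  ([0, 2, 5, 2, 5, 0, 5, 2, 5], 1),
  ([0, 4, 5, 0, 4, 5, 4, 0, 5], 1),
  ([0, 1, 0, 5, 2, 1, 0, 1, 2, 5], 1),
  ([0, 1, 2, 5, 1, 5, 2, 1, 0, 2], 1),
  ([0, 2, 5, 4, 5, 0, 5, 4, 5, 2], 1),
  ([0, 3, 0, 5, 0, 5, 3, 5, 0, 5], 1),
  ([0, 3, 0, 5, 2, 5, 3, 5, 2, 5], 1),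
  ([0, 4, 0, 5, 0, 5, 4, 5, 0, 5], 1),
  ([0, 4, 0, 5, 2, 5, 4, 5, 2, 5], 1),
  ([0, 5, 2, 3, 2, 5, 0, 5, 3, 5], 1),
  ([0, 5, 2, 4, 2, 5, 0, 5, 4, 5], 1),
  ([1, 2, 1, 2, 5, 4, 1, 4, 5, 2], 1),
  ([0, 1, 0, 1, 3, 5, 0, 3, 1, 0, 5], 1),
  ([0, 1, 0, 1, 5, 0, 1, 2, 0, 2, 5], 1),
  ([0, 1, 0, 1, 5, 0, 1, 4, 0, 4, 5], 1),
  ([0, 1, 0, 1, 5, 0, 4, 1, 4, 0, 5], 1),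
  ([0, 1, 0, 1, 5, 0, 5, 1, 5, 0, 5], 1),
  ([0, 2, 0, 5, 0, 5, 2, 5, 0, 2, 5], 1),
  ([0, 2, 5, 2, 4, 5, 0, 5, 4, 2, 5], 1),
  ([1, 2, 3, 1, 2, 5, 3, 1, 3, 5, 2], 1),
  ([1, 3, 4, 3, 4, 5, 4, 3, 1, 4, 5], 1),
  ([1, 3, 4, 3, 5, 4, 3, 1, 4, 5, 4], 1),
  ([3, 4, 3, 4, 5, 4, 5, 3, 5, 4, 5], 1),
  ([0, 1, 0, 5, 0, 2, 1, 0, 1, 2, 0, 5], 1),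
  ([0, 1, 0, 5, 0, 5, 0, 1, 0, 5, 0, 5], 1),
  ([0, 1, 2, 5, 2, 1, 5, 0, 5, 2, 0, 5], 1),
  ([0, 1, 2, 5, 4, 1, 4, 5, 2, 1, 0, 2], 1),
  ([0, 1, 5, 0, 4, 0, 5, 1, 0, 5, 4, 5], 1),
  ([0, 2, 4, 5, 0, 2, 4, 5, 4, 2, 0, 5], 1),
  ([0, 3, 4, 3, 5, 0, 4, 5, 3, 4, 0, 5], 1),
  ([0, 3, 5, 0, 4, 3, 5, 4, 0, 5, 3, 4], 1),
  ([1, 2, 1, 4, 5, 2, 1, 4, 5, 4, 2, 5], 1),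
  ([1, 2, 4, 5, 2, 4, 1, 5, 4, 2, 5, 2], 1),
  ([1, 2, 5, 2, 1, 3, 1, 2, 5, 2, 1, 3], 1),
  ([2, 3, 5, 2, 4, 5, 2, 5, 4, 2, 5, 3], 1),
  ([2, 4, 5, 3, 4, 5, 2, 5, 4, 3, 5, 4], 1),
  ([2, 4, 5, 4, 3, 5, 2, 5, 3, 4, 5, 4], 1),
  ([0, 1, 0, 1, 3, 5, 2, 0, 3, 2, 1, 0, 5], 1),
  ([0, 1, 0, 5, 4, 0, 1, 2, 0, 2, 1, 4, 5], 1),
  ([0, 1, 2, 1, 3, 1, 3, 2, 1, 0, 5, 3, 5], 1),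
  ([0, 1, 2, 1, 4, 0, 4, 1, 2, 0, 5, 1, 5], 1),
  ([0, 1, 2, 1, 5, 2, 1, 5, 0, 2, 5, 0, 5], 1),
  ([0, 1, 2, 1, 5, 2, 1, 5, 2, 0, 5, 0, 5], 1),
  ([0, 1, 2, 1, 5, 2, 5, 1, 2, 0, 5, 0, 5], 1),
  ([0, 1, 2, 5, 2, 1, 0, 4, 5, 2, 4, 5, 4], 1),
  ([0, 1, 2, 5, 3, 1, 3, 5, 2, 1, 0, 2, 3], 1),
  ([0, 2, 0, 5, 0, 5, 3, 2, 3, 5, 0, 2, 5], 1),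
  ([0, 2, 0, 5, 0, 5, 4, 2, 4, 5, 0, 2, 5], 1),
  ([0, 2, 1, 4, 1, 2, 5, 4, 0, 5, 0, 4, 5], 1),
  ([0, 2, 1, 4, 5, 1, 2, 5, 4, 0, 5, 2, 5], 1),
  ([0, 2, 4, 5, 0, 5, 0, 5, 4, 5, 4, 5, 2], 1),
  ([0, 2, 5, 2, 5, 0, 5, 1, 2, 1, 2, 1, 5], 1),
  ([0, 2, 5, 2, 5, 0, 5, 4, 3, 2, 3, 4, 5], 1),
  ([0, 2, 0, 2], 1),
  ([0, 3, 0, 3], 1),
  ([0, 4, 0, 4], 1),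
  ([1, 4, 1, 4], 1),
  ([2, 3, 2, 3], 1),
  ([2, 4, 2, 4], 1),
  ([0, 2, 3, 0, 3, 2], 1),
  ([0, 3, 4, 0, 4, 3], 1),
  ([1, 2, 1, 2, 1, 2], 1),
  ([2, 3, 4, 2, 4, 3], 1),
  ([0, 1, 0, 1, 0, 1, 0, 1], 1),
  ([0, 2, 3, 4, 0, 4, 3, 2], 1),
  ([0, 3, 4, 3, 0, 3, 4, 3], 1),
  ([0, 4, 3, 4, 0, 4, 3, 4], 1),
  ([1, 3, 1, 3, 1, 3, 1, 3], 1),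
  ([2, 3, 4, 3, 2, 3, 4, 3], 1),
  ([2, 4, 3, 4, 2, 4, 3, 4], 1),
  ([3, 4, 3, 4, 3, 4, 3, 4], 1),
  ([0, 1, 0, 1, 2, 1, 0, 1, 2], 1),
  ([1, 2, 1, 3, 1, 2, 3, 1, 3], 1),
  ([1, 3, 1, 4, 3, 1, 4, 3, 1, 4, 3, 4], 1)]

end CfsgLib.Spor.HeldTri.AmLin
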