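import Cfsg.Agent.Lib.Spor.HeldRecog.Amalgam.AmData

/-!
Data for the two normalisers and their common part, found by a computer search.
-/

set_option autoImplicit false

namespace CfsgLib.Spor.HeldTri.AmLin

open CfsgLib.Spor.HeldRecog.Amalgam

/-- The maps fixing the central point, each with a code inducing it. -/
def stabA : List (ℕ × ℕ) :=
  [(34630287489, 0), (36794548353, 80), (43287330945, 10753), (45451591809, 10833), (34630815873, 56), (36795076737, 104), (43287859329, 10793), (45452120193, 10873), (8665497729, 13063), (10829758593, 13183), (43293671553, 3457), (45457932417, 3577), (8666026113, 13079), (10830286977, 13167), (43294199937, 3497), (45458460801, 3537), (8667611265, 4999), (10831872129, 5103), (34638741633, 21248), (36803002497, 21352), (8668139649, 5015), (10832400513, 5119), (34639270017, 21304), (36803530881, 21328), (35167191171, 5), (37365006467, 85), (43958452355, 10756), (46156267651, 10836), (35167727747, 61), (37365543043, 109), (43958988931, 10796), (46156804227,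 10876), (8799846531, 13058), (10997661827, 13178), (43964891267, 3460), (46162706563, 3580), (8800383107, 13074), (10998198403, 13162), (43965427843, 3500), (46163243139, 3540), (8801992835, 4994), (10999808131, 5098), (35175776387, 21253), (37373591683, 21357), (8802529411, 5010), (11000344707, 5114), (35176312963, 21309), (37374128259, 21333)]

/-- Witnesses against the three other classes of complements. -/
def witA : List Wit :=
  [⟨0, [1], [0, 1, 0, 0, 1, 0], 4432744481280⟩, ⟨0, [1], [0, 1, 0, 0, 1, 0], 4432744481280⟩, ⟨1, [1], [1], 2267881152832⟩]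

/-- The data of the side `A`. -/
def dataA : SideData :=
  ⟨HeldFusion.aCode, 2, 10378832335288374590, 52079657154, stabA, 3460, 10833, 5627506082240, 5817803751552, [[0, 0, 0, 0, 0, 0], [1, 1], [0, 0, 0, 1, 0, 0, 0, 1]], witA, 11⟩

/-- The maps fixing the central point, each with a code inducing it. -/
def stabB : List (ℕ × ℕ) :=
  [(34630287489, 0), (38959071361, 8), (34764505281, 10240), (39110066369, 10248), (35167158657, 2), (39563051393, 10), (35301376449, 10242), (39714046401, 10250), (34498166850, 1792), (38810435650, 1800), (34766602434, 17792), (39112425666, 17800), (35035038018, 1798), (39414415682, 1806), (35303473602, 17798), (39716405698, 17806), (34500264003, 12544), (38812794947, 12552), (34634481795, 19200), (38963789955, 19208), (35037135171, 12548), (39416774979, 12556), (35171352963, 19204), (39567769987, 19212), (34638676101, 6), (38968508549, 14), (34772893893, 10244), (39119503557, 10252), (35175547269, 4), (39572488581, 12), (35309765061, 10246), (39723483589,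 10254), (34506555462, 1794), (38819872838, 1802), (34774991046, 17796), (39121862854, 17804), (35043426630, 1796), (39423852870, 1804), (35311862214, 17794), (39725842886, 17802), (34508652615, 12546), (38822232135, 12554), (34642870407, 19206), (38973227143, 19214), (35045523783, 12550), (39426212167, 12558), (35179741575, 19202), (39577207175, 19210)]

/-- Witnesses against the three other classes of complements. -/
def witB : List Wit :=
  [⟨1, [1], [1], 554101244992⟩, ⟨0, [1], [0, 1, 0, 0, 1, 0], 5532188950656⟩, ⟨0, [1], [0, 1, 0, 0, 1, 0], 5532188950656⟩]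

/-- The data of the side `B`. -/
def dataB : SideData :=
  ⟨HeldFusion.bCode, 4, 9313761861428380670, 38959186952, stabB, 17800, 10242, 5006390485312, 4518576185472, [[0, 0, 0, 0, 0, 0], [1, 1], [0, 0, 0, 1, 0, 0, 0, 1]], witB, 11⟩

/-- Codes of the letters normalising `A`: translation and word. -/
def lettersA : List (ℕ × ℕ × List ℕ) :=
  [(56, 0, [1, 0, 1, 0]), (128, 12, [0, 1, 0, 0, 1, 0, 1]), (21248, 0, [0, 1, 0, 1, 0, 0, 1]), (19200, 16, []), (3, 32, [0, 0, 0])]

/-- Codes of the letters normalising `B`: translation and word. -/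
def lettersB : List (ℕ × ℕ × List ℕ) :=
  [(56, 2, [0, 0, 0]), (128, 8, []), (19200, 0, [0, 1, 0, 1, 0, 0, 1]), (8960, 8, [0, 1, 0, 0, 1, 0, 1]), (3, 32, [0, 1, 0, 0, 1, 0])]

/-- The elements of `B` as elements of the normaliser of `A`. -/
def tableB : List (ℕ × ℕ × List ℕ) :=
  [(0, 0, []), (32, 3, [0, 1, 0, 0, 1, 0]), (48, 1, []), (16, 2, [0, 1, 0, 0, 1, 0]), (64, 2, []), (96, 1, [0, 1, 0, 0, 1, 0]), (112, 3, []), (80, 0, [0, 1, 0, 0, 1, 0]), (128, 12, [0, 1, 0, 0, 1, 0, 1]), (160, 15, [1]), (176, 13, [0, 1, 0, 0, 1, 0, 1]), (144, 14, [1]), (192, 14, [0, 1, 0, 0, 1, 0, 1]), (224, 13, [1]), (240, 15, [0, 1, 0, 0, 1, 0, 1]), (208, 12, [1]), (9472, 4, []), (9504, 7, [0, 1, 0, 0, 1, 0]), (9520, 5, []), (9488, 6, [0, 1, 0, 0, 1, 0]), (9536, 6, []), (9568, 5, [0, 1, 0, 0, 1, 0]), (9584, 7, []), (9552, 4, [0, 1, 0, 0, 1, 0]), (10752, 8, [0, 1, 0, 0, 1, 0, 1]), (10784, 11, [1]), (10800, 9, [0, 1, 0, 0, 1, 0, 1]), (10768, 10, [1]), (10816, 10, [0, 1, 0, 0, 1, 0, 1]), (10848, 9, [1]), (10864,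 11, [0, 1, 0, 0, 1, 0, 1]), (10832, 8, [1]), (1, 8, []), (33, 11, [0, 1, 0, 0, 1, 0]), (49, 9, []), (17, 10, [0, 1, 0, 0, 1, 0]), (65, 10, []), (97, 9, [0, 1, 0, 0, 1, 0]), (113, 11, []), (81, 8, [0, 1, 0, 0, 1, 0]), (129, 4, [0, 1, 0, 0, 1, 0, 1]), (161, 7, [1]), (177, 5, [0, 1, 0, 0, 1, 0, 1]), (145, 6, [1]), (193, 6, [0, 1, 0, 0, 1, 0, 1]), (225, 5, [1]), (241, 7, [0, 1, 0, 0, 1, 0, 1]), (209, 4, [1]), (9473, 12, []), (9505, 15, [0, 1, 0, 0, 1, 0]), (9521, 13, []), (9489, 14, [0, 1, 0, 0, 1, 0]), (9537, 14, []), (9569, 13, [0, 1, 0, 0, 1, 0]), (9585, 15, []), (9553, 12, [0, 1, 0, 0, 1, 0]), (10753, 0, [0, 1, 0, 0, 1, 0, 1]), (10785, 3, [1]), (10801, 1, [0, 1, 0, 0, 1, 0, 1]), (10769, 2, [1]), (10817, 2, [0, 1, 0, 0, 1, 0, 1]), (10849, 1, [1]), (10865, 3, [0, 1, 0, 0, 1, 0, 1]), (10833, 0, [1])]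

/-- Generators of the common Sylow complement, seen from `A`. -/
def sharedA : List (ℕ × ℕ × List ℕ) :=
  [(2, 40, [0, 0, 0]), (8, 1, [1, 0, 1, 0]), (19200, 16, [])]

/-- Generators of the common Sylow complement, seen from `B`. -/
def sharedB : List (ℕ × ℕ × List ℕ) :=
  [(2, 0, [0, 1, 0, 0, 1, 0]), (8, 0, [0, 0, 0]), (19200, 0, [0, 1, 0, 1, 0, 0, 1])]

/-- The code of the lift used for the seventh letter. -/
def hPart : ℕ :=
  6631834378944

/-- The translation of the seventh letter in `A`. -/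
def hShift : ℕ :=
  16

/-- The same translation, seen from `B`. -/
def hShiftB : ℕ × ℕ × List ℕ :=
  (19200, 0, [0, 1, 0, 1, 0, 0, 1])

/-- The code of the lift in the normaliser of `B`. -/
def hPartB : ℕ :=
  6632263273920

/-- The two possible differences of the two lifts. -/
def glueB : ℕ × ℕ :=
  (0, 50)

/-- Relators of the common part that determine the difference. -/
def crit : List (List ℕ) :=
  [[3, 3], [3, 2, 3, 2], [3, 0, 3, 1, 3, 0, 3, 1]]

/-- Words moving the central point over its class in `A`. -/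
def orbitWordsA : List (List ℕ) :=
  [[6, 5, 6], [], [5, 6, 5, 6], [5, 0, 6], [5, 6], [6, 0, 6], [0, 6, 0, 6], [0, 6], [6], [5, 1, 2, 0, 6], [5, 1, 2, 6], [5, 2, 0, 6], [5, 2, 6], [6, 1, 2, 0, 6], [6, 2, 6], [6, 2, 0, 6], [6, 1, 2, 6], [1, 2, 0, 6], [1, 2, 6], [2, 0, 6], [2, 6]]

/-- Words moving the central point over its class in `B`. -/
def orbitWordsB : List (List ℕ) :=
  [[6, 3, 5, 4, 6], [6, 5, 6], [6, 5, 4, 6], [], [6, 4, 6], [5, 6, 5, 6], [6, 3, 4, 6], [3, 5, 4, 0, 6], [3, 5, 4, 6], [5, 0, 6], [5, 6], [5, 4, 0, 6], [5, 4, 6], [6, 0, 6], [0, 6, 0, 6], [3, 4, 0, 6], [3, 4, 6], [0, 6], [6], [4, 0, 6], [4, 6]]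

end CfsgLib.Spor.HeldTri.AmLin
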