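import Cfsg.Agent.Lib.Spor.HeldTri.AmLin.Rels
import Cfsg.Agent.Lib.Spor.HeldRecog.Amalgam.Norm
import Cfsg.Agent.Lib.Spor.HeldRecog.Quotient
import Cfsg.Agent.Lib.Spor.SLFiveTransv
import Cfsg.Agent.Lib.Classical.SLBasic

/-!
# Seven involutions of the five dimensional linear group over the field of two elements

They satisfy the relators of the amalgam and generate.
-/

set_option autoImplicit false
set_option maxRecDepth 100000
set_option linter.style.haveILetI false

namespace CfsgLib.Spor.HeldTri.AmLin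

open CfsgLib.Spor.TC CfsgLib.Spor.HeldRecog CfsgLib.Spor.HeldRecog.Amalgam CfsgLib.Spor.SLFiveTransv Matrix

/-- The seven involutions, by the images of the unit vectors. -/
def lettersL : List ℕ := [34663841921, 34630279425, 34630295681, 34630320257, 34631860353, 34630549633, 34630354057]

/-- Words giving the elementary transvections. -/
def transvWords : List (List ℕ) := [[], [1, 3, 5, 3, 1, 5], [3, 5, 3, 5], [5], [6, 0, 1, 5, 3, 1, 0, 3, 5, 6], [1, 2, 4, 6, 4, 6, 2, 1], [], [2], [2, 4, 2, 4], [0], [2, 4, 6, 4, 6, 2], [1, 2, 1], [], [2, 4, 2], [1, 0, 1], [5, 6, 5, 6, 5], [1, 3, 1], [3], [], [0, 1, 3, 1, 0, 1, 3, 1], [0, 5, 6, 2, 4, 2, 4, 6, 0, 5], [0, 6, 0, 2, 6, 0], [2, 6, 2, 6], [3, 4, 2, 6, 2, 6, 4, 3], []]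

/-- A bit as a scalar. -/
def ind (b : Bool) : ZMod 2 := cond b 1 0

theorem ind_xor (a b : Bool) : ind (a ^^ b) = ind a + ind b := by cases a <;> cases b <;> decide

theorem ind_and (a b : Bool) : ind (a && b) = ind a * ind b := by cases a <;> cases b <;> decide

/-- A number as a vector. -/
def vec (v : ℕ) : Fin 5 → ZMod 2 := fun i => ind (v.testBit i)

/-- A code as a matrix. -/
noncomputable def toM (g : ℕ) : M5 := Matrix.of fun i j => ind ((img g j).testBit i)

theorem testBit_sel (v j x i : ℕ) : (sel v j x).testBit i = (v.testBit j && x.testBit i) := by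
  rw [sel_eq]
  cases v.testBit j <;> simp

theorem toM_mulVec (g : ℕ) {v : ℕ} (hv : v < 32) : toM g *ᵥ vec v = vec (app g v) := by
  have h5 : v.testBit 5 = false := Nat.testBit_lt_two_pow hv
  funext i
  show (∑ j : Fin 5, ind ((img g j.1).testBit i) * ind (v.testBit j.1)) =
    ind ((sel v 0 (img g 0) ^^^ sel v 1 (img g 1) ^^^ (sel v 2 (img g 2) ^^^ sel v 3 (img g 3)) ^^^
      (sel v 4 (img g 4) ^^^ sel v 5 (img g 5))).testBit i)
  simp only [Nat.testBit_xor, testBit_sel, ind_xor, ind_and, h5, Fin.sum_univ_five]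
  simp only [show ind false = 0 from rfl, Fin.val_zero, Fin.val_one, Fin.val_two]
  show ind ((img g 0).testBit i) * _ + _ + _ + ind ((img g 3).testBit i) * ind (v.testBit 3) +
    ind ((img g 4).testBit i) * ind (v.testBit 4) = _
  ring

theorem ext_vec {A B : M5} (h : ∀ j < 5, A *ᵥ vec (2 ^ j) = B *ᵥ vec (2 ^ j)) : A = B := by
  refine Matrix.ext fun i j => ?_
  have hv : ∀ j : Fin 5, vec (2 ^ (j : ℕ)) = Pi.single j 1 := by decide +kernel
  have h' := congrFun (h j j.2) i
  rw [hv, Matrix.mulVec_single_one, Matrix.mulVec_single_one] at h'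
  exact h'

/-- The code of a letter. -/
def codeL (i : ℕ) : ℕ := lettersL.getD i idG

/-- The image of a point under a word. -/
noncomputable def wapp (l : List ℕ) (v : ℕ) : ℕ :=
  List.rec (motive := fun _ => ℕ) v (fun a _ ih => app (codeL a) ih) l

theorem codeL_out {i : ℕ} (hi : 7 ≤ i) : codeL i = idG := List.getD_eq_default _ _ (by simpa [lettersL] using hi)

theorem stab_ok : allFrom (fun i => allFrom (fun v => Nat.blt (app (codeL i) v) 32 &&
    Nat.beq (app (codeL i) (app (codeL i) v)) v) 0 32) 0 8 = true := by decide +kernel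

theorem stab_facts (i : ℕ) {v : ℕ} (hv : v < 32) : app (codeL i) v < 32 ∧ app (codeL i) (app (codeL i) v) = v := by
  rcases Nat.lt_or_ge i 7 with hi | hi
  · have h := allFrom_spec (allFrom_spec stab_ok i (Nat.zero_le i) (by omega)) v (Nat.zero_le v) (by omega)
    rw [Bool.and_eq_true] at h
    exact ⟨Nat.le_of_ble_eq_true h.1, Nat.eq_of_beq_eq_true h.2⟩
  · rw [codeL_out hi, app_id (by omega)]
    exact ⟨hv, app_id (by omega)⟩

theorem pow_lt {j : ℕ} (hj : j < 5) : 2 ^ j < 32 := Nat.pow_lt_pow_right (by norm_num) hj (n := 5)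

theorem toM_sq (i : ℕ) : toM (codeL i) * toM (codeL i) = 1 := ext_vec fun j hj => by
  rw [← mulVec_mulVec, toM_mulVec _ (pow_lt hj), toM_mulVec _ (stab_facts i (pow_lt hj)).1,
    (stab_facts i (pow_lt hj)).2, one_mulVec]

/-- The seven involutions. -/
noncomputable def mL (i : ℕ) : SL5 :=
  ⟨toM (codeL i), units_trivial _ (IsUnit.of_mul_eq_one _ (by rw [← det_mul, toM_sq, det_one]))⟩

theorem ev_mulVec : ∀ (l : List ℕ) {v : ℕ}, v < 32 →
    ((ev mL l : SL5) : M5) *ᵥ vec v = vec (wapp l v) ∧ wapp l v < 32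
  | [], v, hv => ⟨by simp [ev, wapp], hv⟩
  | a :: l, v, hv => by
    obtain ⟨h1, h2⟩ := ev_mulVec l hv
    refine ⟨?_, (stab_facts a h2).1⟩
    rw [ev_cons]
    show (toM (codeL a) * ((ev mL l : SL5) : M5)) *ᵥ vec v = _
    rw [← mulVec_mulVec, h1]
    exact toM_mulVec _ h2

theorem rels_model : (relsP.all fun r => r.2 == 1 && (List.range 5).all fun j => wapp r.1 (2 ^ j) == 2 ^ j) = true := by
  decide +kernel

theorem sat_mL : Sat 7 relsP mL := by
  refine ⟨fun x => Subtype.ext (toM_sq x), fun x hx => Subtype.ext (ext_vec fun j hj => ?_), fun r hr => ?_⟩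
  · show toM (codeL x) *ᵥ _ = (1 : M5) *ᵥ _
    rw [codeL_out hx, toM_mulVec _ (pow_lt hj), app_id (by have := pow_lt hj; omega), one_mulVec]
  · have h := List.all_eq_true.1 rels_model r hr
    simp only [Bool.and_eq_true, beq_iff_eq, List.all_eq_true, List.mem_range] at h
    rw [h.1, pow_one]
    refine Subtype.ext (ext_vec fun j hj => ?_)
    rw [(ev_mulVec r.1 (pow_lt hj)).1, h.2 j hj]
    exact (one_mulVec _).symm

theorem transv_model : ∀ i j : Fin 5, i ≠ j → ∀ k : Fin 5, wapp (transvWords.getD (5 * i.1 + j.1) []) (2 ^ k.1) =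
    if k = j then 2 ^ k.1 ^^^ 2 ^ i.1 else 2 ^ k.1 := by decide +kernel

theorem transv_mulVec : ∀ i j : Fin 5, i ≠ j → ∀ k : Fin 5, Matrix.transvection i j (1 : ZMod 2) *ᵥ vec (2 ^ k.1) =
    vec (if k = j then 2 ^ k.1 ^^^ 2 ^ i.1 else 2 ^ k.1) := by decide +kernel

theorem closure_mL : Subgroup.closure (Set.range mL) = ⊤ := by
  refine Classical.sl_eq_top _ fun i j hij c => ?_
  rcases (show c = 0 ∨ c = 1 by revert c; decide) with rfl | rfl
  · have h1 : SpecialLinearGroup.transvection hij (0 : ZMod 2) = 1 := Subtype.ext (Matrix.transvection_zero i j)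
    rw [h1]
    exact one_mem _
  · have h1 : SpecialLinearGroup.transvection hij (1 : ZMod 2) = ev mL (transvWords.getD (5 * i.1 + j.1) []) := by
      refine Subtype.ext (ext_vec fun k hk => ?_)
      rw [(ev_mulVec _ (pow_lt hk)).1]
      show Matrix.transvection i j (1 : ZMod 2) *ᵥ vec (2 ^ k) = _
      rw [transv_mulVec i j hij ⟨k, hk⟩, transv_model i j hij ⟨k, hk⟩]
    rw [h1]
    exact ev_mem_range mL _
  where
    ev_mem_range (g : ℕ → SL5) : ∀ l : List ℕ, ev g l ∈ Subgroup.closure (Set.range g)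
      | [] => by simp [ev]
      | a :: l => by rw [ev_cons]; exact mul_mem (Subgroup.subset_closure ⟨a, rfl⟩) (ev_mem_range g l)

theorem card_SL5 : Nat.card SL5 = 9999360 := by
  haveI : Fact (Nat.Prime 2) := ⟨Nat.prime_two⟩
  have h := Classical.card_sl_mul (n := 5) (F := ZMod 2) (by norm_num)
  have h2 : (∏ i : Fin 5, (2 ^ 5 - 2 ^ (i : ℕ))) = 9999360 := by decide +kernel
  rw [ZMod.card, h2] at h
  exact (Nat.one_mul _).symm.trans h

theorem simple_SL5 : IsSimpleGroup SL5 := by
  haveI : Fact (Nat.Prime 2) := ⟨Nat.prime_two⟩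
  have hc : Subgroup.center SL5 = ⊥ := Subgroup.eq_bot_of_card_eq _ (by
    rw [Classical.card_center_sl (by norm_num), ZMod.card]; norm_num)
  haveI := Classical.psl_isSimple (n := 5) (F := ZMod 2) (by norm_num)
  exact ((QuotientGroup.quotientMulEquivOfEq hc).trans QuotientGroup.quotientBot).symm.isSimpleGroup

end CfsgLib.Spor.HeldTri.AmLin
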